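import Cfsg.Agent.ThreeTransposition.M24Aut.PairMap

/-!
The map on the members given by an automorphism of the even part of a group of type M(24).
-/

set_option autoImplicit false
set_option linter.unusedSectionVars false

namespace Cfsg.Lib.ThreeTr

open Cfsg Subgroup

universe u

variable {G : Type u} [Group G] [Finite G] {D : Set G}

namespace M24Aut

variable (h : M24 D) (χ : G →* ℤˣ) (hχ : ∀ a ∈ D, χ a = -1) (φ : χ.ker ≃* χ.ker)

/-- An automorphism of the even part, on all elements; odd ones go to one. -/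
noncomputable def ext (x : G) : G := by
  classical exact if hx : x ∈ χ.ker then (φ ⟨x, hx⟩ : G) else 1

theorem ext_eq {x : G} (hx : x ∈ χ.ker) : ext χ φ x = (φ ⟨x, hx⟩ : G) := dif_pos hx

theorem ext_mul {x y : G} (hx : x ∈ χ.ker) (hy : y ∈ χ.ker) : ext χ φ (x * y) = ext χ φ x * ext χ φ y := by
  rw [ext_eq χ φ hx, ext_eq χ φ hy, ext_eq χ φ (mul_mem hx hy), ← Subgroup.coe_mul, ← map_mul]
  rfl

theorem ext_inj {x y : G} (hx : x ∈ χ.ker) (hy : y ∈ χ.ker) (e : ext χ φ x = ext χ φ y) : x = y := by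
  rw [ext_eq χ φ hx, ext_eq χ φ hy] at e
  exact congrArg Subtype.val (φ.injective (Subtype.ext e))

include h hχ

theorem pair_even {x : G} (hx : IsPair D x) : x ∈ χ.ker := ((isPair_iff h χ hχ).1 hx).2.1

theorem eleven_even {u : G} (hu : orderOf u = 11) : u ∈ χ.ker := by
  have h1 : χ u ^ 11 = 1 := by rw [← map_pow, ← hu, pow_orderOf_eq_one, map_one]
  rcases Int.units_eq_one_or (χ u) with e | e
  · exact e
  · rw [e] at h1
    exact absurd h1 (by decide)

theorem ext_pair {x : G} (hx : IsPair D x) : IsPair D (ext χ φ x) := by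
  obtain ⟨o, hev, u, hu, hux⟩ := (isPair_iff h χ hχ).1 hx
  have hu' := eleven_even h χ hχ hu
  rw [isPair_iff h χ hχ, ext_eq χ φ hev, Subgroup.orderOf_coe, MulEquiv.orderOf_eq, ← Subgroup.orderOf_coe]
  refine ⟨o, MonoidHom.mem_ker.1 (φ _).2, (φ ⟨u, hu'⟩ : G), ?_, ?_⟩
  · rw [Subgroup.orderOf_coe, MulEquiv.orderOf_eq, ← Subgroup.orderOf_coe]; exact hu
  · exact ((Commute.map (show Commute (⟨u, hu'⟩ : χ.ker) ⟨x, hev⟩ from Subtype.ext hux.eq) φ.toMonoidHom).map
      χ.ker.subtype)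

theorem ext_linked {x y : G} (hl : Linked D x y) : Linked D (ext χ φ x) (ext χ φ y) := by
  obtain ⟨hne, hx, hy, u, hu, h1, h2⟩ := (linked_iff h).1 hl
  have hu' := eleven_even h χ hχ hu
  refine (linked_iff h).2 ⟨fun e => hne (ext_inj χ φ (pair_even h χ hχ hx) (pair_even h χ hχ hy) e),
    ext_pair h χ hχ φ hx, ext_pair h χ hχ φ hy, (φ ⟨u, hu'⟩ : G), ?_, ?_, ?_⟩
  · rw [Subgroup.orderOf_coe, MulEquiv.orderOf_eq, ← Subgroup.orderOf_coe]; exact hu
  · rw [ext_eq χ φ (pair_even h χ hχ hx)]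
    exact ((Commute.map (show Commute (⟨u, hu'⟩ : χ.ker) ⟨x, pair_even h χ hχ hx⟩ from Subtype.ext h1.eq)
      φ.toMonoidHom).map χ.ker.subtype)
  · rw [ext_eq χ φ (pair_even h χ hχ hy)]
    exact ((Commute.map (show Commute (⟨u, hu'⟩ : χ.ker) ⟨y, pair_even h χ hχ hy⟩ from Subtype.ext h2.eq)
      φ.toMonoidHom).map χ.ker.subtype)

omit hχ in
/-- The member shared by two linked pairs is unique. -/
theorem common_unique {x y p q : G} (hl : Linked D x y) (hp : p ∈ D) (hq : q ∈ D)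
    (p1 : ∃ b ∈ perp D p, x = p * b) (p2 : ∃ b ∈ perp D p, y = p * b)
    (q1 : ∃ b ∈ perp D q, x = q * b) (q2 : ∃ b ∈ perp D q, y = q * b) : p = q := by
  obtain ⟨a, ha, b, hb, c, hc, rfl, rfl⟩ := hl
  have one : ∀ r ∈ D, (∃ b' ∈ perp D r, a * b = r * b') → (∃ b' ∈ perp D r, a * c = r * b') → r = a := by
    intro r hr ⟨b', hb', e⟩ ⟨c', hc', e'⟩
    rcases pair_factor h ha hb hr hb' e with ⟨h1, -⟩ | ⟨h1, -⟩
    · exact h1
    rcases pair_factor h ha hc.1 hr hc' e' with ⟨h2, -⟩ | ⟨h2, -⟩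
    · exact h2
    · exact absurd (h1.symm.trans h2) (fun e'' => hc.2.2.1 e''.symm)
  exact (one p hp p1 p2).trans (one q hq q1 q2).symm

omit hχ in
/-- Three pairwise linked pairs with product other than one share a member. -/
theorem common_three {x y z : G} (hxy : Linked D x y) (hxz : Linked D x z) (hyz : Linked D y z) (hne : x * y * z ≠ 1) :
    ∃ p ∈ D, (∃ b ∈ perp D p, x = p * b) ∧ (∃ b ∈ perp D p, y = p * b) ∧ ∃ b ∈ perp D p, z = p * b := by
  obtain ⟨a, ha, b, hb, c, hc, hx, hy⟩ := hxy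
  obtain ⟨p, hp, q, hq, r, hr, hx', hz⟩ := hxz
  obtain ⟨s, hs, t, ht, w, hw, hy', hz'⟩ := hyz
  rcases pair_factor h ha hb hp hq (hx ▸ hx') with ⟨h1, -⟩ | ⟨h1, -⟩
  · exact ⟨a, ha, ⟨b, hb, hx⟩, ⟨c, hc.1, hy⟩, r, h1 ▸ hr.1, h1 ▸ hz⟩
  rcases pair_factor h ha hc.1 hs ht (hy ▸ hy') with ⟨h2, -⟩ | ⟨h2, -⟩
  · exact ⟨a, ha, ⟨b, hb, hx⟩, ⟨c, hc.1, hy⟩, w, h2 ▸ hw.1, h2 ▸ hz'⟩
  rcases pair_factor h hp hr.1 hs hw.1 (hz ▸ hz') with ⟨h3, -⟩ | ⟨h3, -⟩
  · exact absurd ((h2.symm.trans h3).trans h1) hc.2.2.1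
  · exfalso
    refine hne ?_
    rw [hx, hy, hz, h1, ← h3, h2]
    have haa := sq_eq_one h.cls.1 ha
    have hbb := sq_eq_one h.cls.1 hb.1
    have hcc := sq_eq_one h.cls.1 hc.1.1
    calc a * b * (a * c) * (b * c) = b * a * (a * c) * (b * c) := by rw [hb.2.2.eq]
      _ = b * c * (b * c) := by rw [mul_assoc b a, ← mul_assoc a a, haa, one_mul]
      _ = b * (c * b) * c := by simp only [mul_assoc]
      _ = b * (b * c) * c := by rw [← hc.2.2.2.eq]
      _ = 1 := by rw [← mul_assoc b b, hbb, one_mul, hcc]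

/-- The member attached to two linked pairs through a member. -/
def Center (a p : G) : Prop := p ∈ D ∧ ∀ b ∈ perp D a, ∃ b' ∈ perp D p, ext χ φ (a * b) = p * b'

theorem exists_center {a : G} (ha : a ∈ D) : ∃ p, Center (D := D) χ φ a p := by
  classical
  have T := h.solid.full.tower
  have hlink : ∀ {b c : G}, b ∈ perp D a → c ∈ perp D a ∩ perp D b →
      Linked D (ext χ φ (a * b)) (ext χ φ (a * c)) := fun hb hc =>
    ext_linked h χ hχ φ ⟨a, ha, _, hb, _, hc, rfl, rfl⟩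
  have hex : ∀ {b c : G}, b ∈ perp D a → c ∈ perp D a ∩ perp D b → ∃ p ∈ D,
      (∃ q ∈ perp D p, ext χ φ (a * b) = p * q) ∧ ∃ q ∈ perp D p, ext χ φ (a * c) = p * q := by
    intro b c hb hc
    obtain ⟨p, hp, q, hq, r, hr, e1, e2⟩ := hlink hb hc
    exact ⟨p, hp, ⟨q, hq, e1⟩, r, hr.1, e2⟩
  -- the property of a member against one edge
  let P : G → G → G → Prop := fun p b c => p ∈ D ∧ (∃ q ∈ perp D p, ext χ φ (a * b) = p * q) ∧
    ∃ q ∈ perp D p, ext χ φ (a * c) = p * q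
  have tri : ∀ {b c e p : G}, b ∈ perp D a → c ∈ perp D a ∩ perp D b → e ∈ perp D a ∩ perp D b → e ∈ perp D c →
      P p b c → P p b e := by
    intro b c e p hb hc he hec hp
    have l1 := hlink hb hc
    have l2 := hlink hb he
    have l3 := hlink hc.1 (⟨he.1, hec⟩ : e ∈ perp D a ∩ perp D c)
    have hne : ext χ φ (a * b) * ext χ φ (a * c) * ext χ φ (a * e) ≠ 1 := by
      have k1 := pair_even h χ hχ ⟨a, ha, b, hb, rfl⟩
      have k2 := pair_even h χ hχ ⟨a, ha, c, hc.1, rfl⟩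
      have k3 := pair_even h χ hχ ⟨a, ha, e, he.1, rfl⟩
      rw [← ext_mul χ φ k1 k2, ← ext_mul χ φ (mul_mem k1 k2) k3]
      intro h1
      rw [show (1 : G) = ext χ φ 1 by rw [ext_eq χ φ (one_mem _)]; exact (congrArg Subtype.val (map_one φ)).symm] at h1
      have h2 := ext_inj χ φ (mul_mem (mul_mem k1 k2) k3) (one_mem _) h1
      have hl : CList D [a, b, c, e] :=
        ((clist_pair h hc.1.1 hec).cons hb.1 (by simp [hc.2, he.2])).cons ha (by simp [hb, hc.1, he.1])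
      have haa := sq_eq_one h.cls.1 ha
      have e4 : a * b * c * e = a * b * (a * c) * (a * e) := by
        calc a * b * c * e = a * b * (a * a) * c * e := by rw [haa, mul_one]
          _ = a * b * a * (a * c) * e := by simp only [mul_assoc]
          _ = a * b * a * (c * a) * e := by rw [hc.1.2.2.eq]
          _ = _ := by simp only [mul_assoc]
      have h4 := h.four_fixed_count hl
      rw [e4, h2] at h4
      have : {u | u ∈ D ∧ Commute u (1 : G)} = D := by ext u; simp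
      rw [this, h.solid.full.card] at h4
      norm_num at h4
    obtain ⟨r, hr, r1, r2, r3⟩ := common_three h l1 l2 l3 hne
    have : p = r := common_unique h l1 hp.1 hr hp.2.1 hp.2.2 r1 r2
    exact ⟨hp.1, hp.2.1, this ▸ r3⟩
  have step : ∀ {b c e p : G}, b ∈ perp D a → c ∈ perp D a ∩ perp D b → e ∈ perp D a ∩ perp D b →
      P p b c → P p b e := by
    intro b c e p hb hc he hp
    by_cases hce : Commute c e
    · by_cases heq : e = c
      · exact heq ▸ hp
      · exact tri hb hc he ⟨he.1.1, heq, hce⟩ hp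
    · obtain ⟨f, hf⟩ := Set.nonempty_of_ncard_ne_zero
        (s := perp D a ∩ perp D b ∩ perp D c ∩ perp D e) (by rw [T.quad_non a ha b hb c hc e he hce]; norm_num)
      exact tri hb hf.1.1 he (perp_symm h he.1.1 hf.2) (tri hb hc hf.1.1 hf.1.2 hp)
  have swap : ∀ {b c p : G}, P p b c → P p c b := fun hp => ⟨hp.1, hp.2.2, hp.2.1⟩
  obtain ⟨b₀, hb₀⟩ := Set.nonempty_of_ncard_ne_zero (s := perp D a) (by rw [T.deg a ha]; norm_num)
  obtain ⟨c₀, hc₀⟩ := exists_third h ha hb₀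
  obtain ⟨p, hp⟩ := hex hb₀ hc₀
  have hp : P p b₀ c₀ := ⟨hp.1, hp.2.1, hp.2.2⟩
  refine ⟨p, hp.1, fun b hb => ?_⟩
  -- two steps from the first
  have near : ∀ {b : G}, b ∈ perp D a → Commute b₀ b → ∃ c, c ∈ perp D a ∩ perp D b ∧ P p b c := by
    intro b hb hc
    by_cases heq : b = b₀
    · subst heq; exact ⟨c₀, hc₀, hp⟩
    · have hb' : b ∈ perp D a ∩ perp D b₀ := ⟨hb, hb.1, heq, hc⟩
      exact ⟨b₀, ⟨hb₀, perp_symm h hb₀.1 hb'.2⟩, swap (step hb₀ hc₀ hb' hp)⟩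
  by_cases hc : Commute b₀ b
  · obtain ⟨c, -, hP⟩ := near hb hc
    exact hP.2.1
  · obtain ⟨f, hf⟩ := Set.nonempty_of_ncard_ne_zero (s := perp D a ∩ perp D b₀ ∩ perp D b)
      (by rw [T.tri_non a ha b₀ hb₀ b hb hc]; norm_num)
    obtain ⟨c, hc', hP⟩ := near hf.1.1 hf.1.2.2.2
    exact (step hf.1.1 hc' (⟨hb, perp_symm h hb.1 hf.2⟩ : b ∈ perp D a ∩ perp D f) hP).2.2

theorem center_unique {a p q : G} (ha : a ∈ D) (hp : Center (D := D) χ φ a p) (hq : Center (D := D) χ φ a q) :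
    p = q := by
  obtain ⟨b, hb⟩ := Set.nonempty_of_ncard_ne_zero (s := perp D a) (by rw [h.solid.full.tower.deg a ha]; norm_num)
  obtain ⟨c, hc⟩ := exists_third h ha hb
  exact common_unique h (ext_linked h χ hχ φ ⟨a, ha, b, hb, c, hc, rfl, rfl⟩) hp.1 hq.1 (hp.2 b hb) (hp.2 c hc.1)
    (hq.2 b hb) (hq.2 c hc.1)

/-- An automorphism of the even part moves the members in a way that respects conjugation. -/
theorem exists_member_map :
    ∃ ψ : G → G, (∀ a ∈ D, ψ a ∈ D) ∧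
      ∀ a ∈ D, ∀ g : χ.ker, ψ ((g : G) * a * (g : G)⁻¹) = (φ g : G) * ψ a * (φ g : G)⁻¹ := by
  classical
  refine ⟨fun a => if ha : a ∈ D then (exists_center h χ hχ φ ha).choose else 1, fun a ha => ?_, fun a ha g => ?_⟩
  · simp only [dif_pos ha]
    exact (exists_center h χ hχ φ ha).choose_spec.1
  · have ha' := conj_mem h.cls (g : G) ha
    simp only [dif_pos ha, dif_pos ha']
    refine center_unique h χ hχ φ ha' (exists_center h χ hχ φ ha').choose_spec
      ⟨conj_mem h.cls _ (exists_center h χ hχ φ ha).choose_spec.1, fun b hb => ?_⟩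
    have hb' : (g : G)⁻¹ * b * (g : G) ∈ perp D a := by
      refine ⟨by simpa using conj_mem h.cls (g : G)⁻¹ hb.1, fun e => hb.2.1 (by rw [← e]; group), ?_⟩
      have := (conj_commute_iff (g : G)⁻¹ _ _).2 hb.2.2
      rwa [show (g : G)⁻¹ * ((g : G) * a * (g : G)⁻¹) * (g : G)⁻¹⁻¹ = a by group, inv_inv] at this
    obtain ⟨q, hq, e⟩ := (exists_center h χ hχ φ ha).choose_spec.2 _ hb'
    set p := (exists_center h χ hχ φ ha).choose
    refine ⟨(φ g : G) * q * (φ g : G)⁻¹, ⟨conj_mem h.cls _ hq.1, fun e' => hq.2.1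
      (mul_left_cancel (mul_right_cancel e')), (conj_commute_iff _ p q).2 hq.2.2⟩, ?_⟩
    have k := pair_even h χ hχ ⟨a, ha, _, hb', rfl⟩
    rw [show (g : G) * a * (g : G)⁻¹ * b = (g : G) * (a * ((g : G)⁻¹ * b * (g : G))) * (g : G)⁻¹ by group,
      ext_mul χ φ (mul_mem g.2 k) (inv_mem g.2), ext_mul χ φ g.2 k, ext_eq χ φ g.2, ext_eq χ φ (inv_mem g.2), e,
      show φ ⟨(g : G)⁻¹, inv_mem g.2⟩ = (φ g)⁻¹ from map_inv φ g]
    push_cast
    group

end M24Aut

end Cfsg.Lib.ThreeTr
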