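import Cfsg.Agent.ThreeTransposition.M24Count.FourProduct
import Cfsg.Agent.ThreeTransposition.M24Count.Involutions
import Cfsg.Agent.ThreeTransposition.ElevenNorm.TypeM24

/-!
An automorphism of the even part of a group of type M(24) moves the members themselves.

Products of two commuting members are the even involutions commuting with an element of order eleven; two such
products commute with one element of order eleven exactly when they share a member and the three members commute.
-/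

set_option autoImplicit false
set_option linter.unusedSectionVars false

namespace Cfsg.Lib.ThreeTr

open Cfsg Subgroup

universe u

variable {G : Type u} [Group G] [Finite G] {D : Set G}

namespace M24Aut

/-- A product of two distinct commuting members. -/
def IsPair (D : Set G) (x : G) : Prop := ∃ a ∈ D, ∃ b ∈ perp D a, x = a * b

/-- Two pairs sharing a member, the three members commuting. -/
def Linked (D : Set G) (x y : G) : Prop :=
  ∃ a ∈ D, ∃ b ∈ perp D a, ∃ c ∈ perp D a ∩ perp D b, x = a * b ∧ y = a * c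

variable (h : M24 D)
include h

theorem overM23 : OverM23 D 306936 31671 3510 693 3240 351 126 := by
  obtain ⟨d, hd, hQ, -⟩ := h.descended
  exact ⟨h.solid, ⟨d, hd, hQ⟩, by norm_num, by norm_num, by norm_num⟩

theorem clist_pair {a b : G} (ha : a ∈ D) (hb : b ∈ perp D a) : CList D [a, b] :=
  (⟨List.nodup_singleton b, by simp [hb.1], by simp⟩ : CList D [b]).cons ha (by simp [hb])

theorem clist_triple {a b c : G} (ha : a ∈ D) (hb : b ∈ perp D a) (hc : c ∈ perp D a ∩ perp D b) :
    CList D [a, b, c] :=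
  (clist_pair h hb.1 hc.2).cons ha (by simp [hb, hc.1])

theorem perp_symm {a b : G} (ha : a ∈ D) (hb : b ∈ perp D a) : a ∈ perp D b :=
  ⟨ha, Ne.symm hb.2.1, hb.2.2.symm⟩

theorem pair_factor {a b p q : G} (ha : a ∈ D) (hb : b ∈ perp D a) (hp : p ∈ D) (hq : q ∈ perp D p)
    (e : a * b = p * q) : (p = a ∧ q = b) ∨ (p = b ∧ q = a) := by
  have hu := pair_unique h.cls.1 h.twin (l := [a, b]) (l' := [p, q]) rfl rfl (clist_pair h ha hb).nodup
    (clist_pair h hp hq).nodup (clist_pair h ha hb).mem (clist_pair h hp hq).mem (clist_pair h ha hb).comm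
    (clist_pair h hp hq).comm (by simpa using e)
  have h1 := (hu p).2 (by simp)
  have h2 := (hu q).2 (by simp)
  simp only [List.mem_cons, List.not_mem_nil, or_false] at h1 h2
  rcases h1 with rfl | rfl <;> rcases h2 with rfl | rfl
  · exact absurd rfl hq.2.1
  · exact Or.inl ⟨rfl, rfl⟩
  · exact Or.inr ⟨rfl, rfl⟩
  · exact absurd rfl hq.2.1

theorem IsPair.orderOf_eq {x : G} (hx : IsPair D x) : orderOf x = 2 := by
  obtain ⟨a, ha, b, hb, rfl⟩ := hx
  refine orderOf_eq_prime (by simpa [sq] using (clist_pair h ha hb).mul_self h.cls.1) fun e => hb.2.1 ?_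
  exact ((inv_eq_of_mul_eq_one_right e).symm.trans (inv_eq h.cls.1 ha))

/-- An element of order eleven commuting with a pair commutes with both members. -/
theorem split_commute {a b u : G} (ha : a ∈ D) (hb : b ∈ perp D a) (hu : orderOf u = 11)
    (hc : Commute u (a * b)) : Commute u a ∧ Commute u b := by
  have key : ∀ {v : G}, Commute v (a * b) → Commute (v ^ 2) a := fun {v} hv => by
    have e : (v * a * v⁻¹) * (v * b * v⁻¹) = a * b := by
      rw [show v * a * v⁻¹ * (v * b * v⁻¹) = v * (a * b) * v⁻¹ by group, hv.eq, mul_inv_cancel_right]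
    have hb' : v * b * v⁻¹ ∈ perp D (v * a * v⁻¹) := by
      refine ⟨conj_mem h.cls v hb.1, fun e => hb.2.1 (mul_left_cancel (mul_right_cancel e)),
        (conj_commute_iff v a b).2 hb.2.2⟩
    have hfix : v ^ 2 * a * (v ^ 2)⁻¹ = a := by
      rw [show v ^ 2 * a * (v ^ 2)⁻¹ = v * (v * a * v⁻¹) * v⁻¹ by rw [sq]; group]
      rcases pair_factor h ha hb (conj_mem h.cls v ha) hb' e.symm with ⟨e1, -⟩ | ⟨e1, e2⟩
      · rw [e1, e1]
      · rw [e1, e2]
    exact mul_inv_eq_iff_eq_mul.1 hfix
  have h1 : Commute u a := by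
    have := key (hc.pow_left 6)
    rwa [← pow_mul, show u ^ (6 * 2) = u ^ 11 * u by rw [← pow_succ],
      show u ^ 11 = 1 by rw [← hu]; exact pow_orderOf_eq_one u, one_mul] at this
  refine ⟨h1, ?_⟩
  rw [show b = a * (a * b) by rw [← mul_assoc, sq_eq_one h.cls.1 ha, one_mul]]
  exact h1.mul_right hc

theorem three_members {u : G} (hu : orderOf u = 11) :
    ∃ a ∈ D, ∃ b ∈ perp D a, ∃ c ∈ perp D a ∩ perp D b, ∀ x, (x ∈ D ∧ Commute u x) ↔ (x = a ∨ x = b ∨ x = c) := by
  obtain ⟨hn, hc, -⟩ := (overM23 h).eleven_normalizer (B := zpowers u) (by rw [Nat.card_zpowers, hu])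
  have e : D ∩ (centralizer ((zpowers u : Subgroup G) : Set G) : Set G) = {x | x ∈ D ∧ Commute u x} := by
    ext x
    rw [Cfsg.Lib.ElevenNorm.centralizer_zpowers, Set.mem_inter_iff, SetLike.mem_coe, mem_centralizer_singleton_iff]
    exact ⟨fun hx => ⟨hx.1, hx.2.symm⟩, fun hx => ⟨hx.1, hx.2.eq.symm⟩⟩
  rw [e] at hn hc
  obtain ⟨a, b, c, hab, hac, hbc, hS⟩ := Set.ncard_eq_three.1 hn
  have hm : ∀ x, (x ∈ D ∧ Commute u x) ↔ (x = a ∨ x = b ∨ x = c) := fun x => by
    have : x ∈ {x | x ∈ D ∧ Commute u x} ↔ x ∈ ({a, b, c} : Set G) := by rw [hS]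
    simpa using this
  have ha := (hm a).2 (Or.inl rfl)
  have hb := (hm b).2 (Or.inr (Or.inl rfl))
  have hc' := (hm c).2 (Or.inr (Or.inr rfl))
  exact ⟨a, ha.1, b, ⟨hb.1, hab.symm, hc a ha b hb⟩, c,
    ⟨⟨hc'.1, hac.symm, hc a ha c hc'⟩, ⟨hc'.1, hbc.symm, hc b hb c hc'⟩⟩, hm⟩

theorem eleven_for_triple {a b c : G} (ha : a ∈ D) (hb : b ∈ perp D a) (hc : c ∈ perp D a ∩ perp D b) :
    ∃ u : G, orderOf u = 11 ∧ Commute u a ∧ Commute u b ∧ Commute u c := by
  haveI := Fact.mk (show Nat.Prime 11 by norm_num)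
  obtain ⟨v, hv⟩ := exists_prime_orderOf_dvd_card' (G := G) 11 (by rw [h.card_group]; norm_num)
  obtain ⟨p, hp, q, hq, r, hr, hm⟩ := three_members h hv
  obtain ⟨g, hg⟩ := h.listTrans [p, q, r] [a, b, c] (clist_triple h hp hq hr) (clist_triple h ha hb hc) rfl
    (by simp)
  simp only [List.map_cons, List.map_nil, List.cons.injEq, and_true] at hg
  obtain ⟨rfl, rfl, rfl⟩ := hg
  refine ⟨g * v * g⁻¹, (MulEquiv.orderOf_eq (MulAut.conj g) v).trans hv, ?_, ?_, ?_⟩ <;>
    rw [conj_commute_iff]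
  exacts [((hm p).2 (Or.inl rfl)).2, ((hm q).2 (Or.inr (Or.inl rfl))).2, ((hm r).2 (Or.inr (Or.inr rfl))).2]

theorem exists_third {a b : G} (ha : a ∈ D) (hb : b ∈ perp D a) : ∃ c, c ∈ perp D a ∩ perp D b :=
  Set.nonempty_of_ncard_ne_zero (by rw [h.solid.full.tower.adj a ha b hb]; norm_num)

/-- The even involutions commuting with an element of order eleven. -/
theorem isPair_iff (χ : G →* ℤˣ) (hχ : ∀ a ∈ D, χ a = -1) {x : G} :
    IsPair D x ↔ orderOf x = 2 ∧ χ x = 1 ∧ ∃ u : G, orderOf u = 11 ∧ Commute u x := by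
  constructor
  · intro hx
    refine ⟨IsPair.orderOf_eq h hx, ?_, ?_⟩
    · obtain ⟨a, ha, b, hb, rfl⟩ := hx
      rw [map_mul, hχ a ha, hχ b hb.1]; rfl
    · obtain ⟨a, ha, b, hb, rfl⟩ := hx
      obtain ⟨c, hc⟩ := exists_third h ha hb
      obtain ⟨u, hu, h1, h2, -⟩ := eleven_for_triple h ha hb hc
      exact ⟨u, hu, h1.mul_right h2⟩
  · rintro ⟨hx, hev, u, hu, hux⟩
    obtain ⟨l, hl, h1, h4, rfl⟩ := h.invForm x hx
    have hpar : (-1 : ℤˣ) ^ l.length = 1 := by rw [← h.sign_prod hl.mem hχ]; exact hev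
    rcases (show l.length = 1 ∨ l.length = 2 ∨ l.length = 3 ∨ l.length = 4 by omega) with e | e | e | e
    · exact absurd hpar (by rw [e]; decide)
    · obtain ⟨a, b, rfl⟩ := List.length_eq_two.1 e
      exact ⟨a, hl.mem a (by simp), b, hl.of_cons.2 b (by simp), by simp⟩
    · exact absurd hpar (by rw [e]; decide)
    · exfalso
      match l, e with
      | [a, b, c, e'], _ =>
        set S := {y | y ∈ D ∧ Commute y (a * b * c * e')} with hS
        have h504 : S.ncard = 504 := h.four_fixed_count hl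
        have hxe : Commute u (a * b * c * e') := by simpa [mul_assoc] using hux
        have hm := Cfsg.Lib.ElevenNorm.ncard_fixed_mod (x := u) S (fun y hy => ⟨conj_mem h.cls u hy.1, by
          have := (conj_commute_iff u y (a * b * c * e')).2 hy.2
          rwa [show u * (a * b * c * e') * u⁻¹ = a * b * c * e' by rw [hxe.eq, mul_inv_cancel_right]] at this⟩) hu
        obtain ⟨p, hp, q, hq, r, hr, h3⟩ := three_members h hu
        have hle : ({y : G | y ∈ S ∧ Commute u y}).ncard ≤ 3 := by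
          refine (Set.ncard_le_ncard (t := {p, q, r}) (fun y hy => ?_) (Set.toFinite _)).trans ?_
          · simpa using (h3 y).1 ⟨hy.1.1, hy.2⟩
          · exact (Set.ncard_insert_le _ _).trans (Nat.succ_le_succ ((Set.ncard_insert_le _ _).trans (by simp)))
        rw [h504] at hm
        omega

/-- Two pairs commuting with one element of order eleven are linked. -/
theorem linked_iff {x y : G} : Linked D x y ↔
    x ≠ y ∧ IsPair D x ∧ IsPair D y ∧ ∃ u : G, orderOf u = 11 ∧ Commute u x ∧ Commute u y := by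
  constructor
  · rintro ⟨a, ha, b, hb, c, hc, rfl, rfl⟩
    obtain ⟨u, hu, h1, h2, h3⟩ := eleven_for_triple h ha hb hc
    exact ⟨fun e => hc.2.2.1 (mul_left_cancel e).symm, ⟨a, ha, b, hb, rfl⟩, ⟨a, ha, c, hc.1, rfl⟩,
      u, hu, h1.mul_right h2, h1.mul_right h3⟩
  · rintro ⟨hne, ⟨a, ha, b, hb, rfl⟩, ⟨p, hp, q, hq, rfl⟩, u, hu, h1, h2⟩
    obtain ⟨hua, hub⟩ := split_commute h ha hb hu h1
    obtain ⟨hup, huq⟩ := split_commute h hp hq hu h2
    obtain ⟨r, hr, s, hs, t, ht, hm⟩ := three_members h hu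
    have hall : ∀ {v w : G}, v ∈ D → Commute u v → w ∈ D → Commute u w → Commute v w := by
      intro v w hv huv hw huw
      rcases (hm v).1 ⟨hv, huv⟩ with rfl | rfl | rfl <;> rcases (hm w).1 ⟨hw, huw⟩ with rfl | rfl | rfl <;>
        first
        | exact Commute.refl _
        | exact hs.2.2
        | exact hs.2.2.symm
        | exact ht.1.2.2
        | exact ht.1.2.2.symm
        | exact ht.2.2.2
        | exact ht.2.2.2.symm
    -- one of the second pair is among the first
    have hshare : p = a ∨ p = b ∨ q = a ∨ q = b := by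
      by_contra hno
      simp only [not_or] at hno
      have hsub : ({a, b, p, q} : Set G) ⊆ {r, s, t} := by
        rintro v (rfl | rfl | rfl | rfl)
        exacts [by simpa using (hm v).1 ⟨ha, hua⟩, by simpa using (hm v).1 ⟨hb.1, hub⟩,
          by simpa using (hm v).1 ⟨hp, hup⟩, by simpa using (hm v).1 ⟨hq.1, huq⟩]
      have h4 : ({a, b, p, q} : Set G).ncard = 4 := Set.ncard_eq_four.2 ⟨a, b, p, q, hb.2.1.symm, Ne.symm hno.1,
        Ne.symm hno.2.2.1, Ne.symm hno.2.1, Ne.symm hno.2.2.2, hq.2.1.symm, rfl⟩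
      have h3 : ({r, s, t} : Set G).ncard ≤ 3 :=
        (Set.ncard_insert_le _ _).trans (Nat.succ_le_succ ((Set.ncard_insert_le _ _).trans (by simp)))
      have := Set.ncard_le_ncard hsub (Set.toFinite _)
      omega
    have mk : ∀ {v w z : G}, v ∈ D → w ∈ perp D v → z ∈ perp D v → Commute u w → Commute u z → w ≠ z →
        z ∈ perp D v ∩ perp D w := fun hv hw hz huw huz hwz => ⟨hz, hz.1, hwz.symm, hall hw.1 huw hz.1 huz⟩
    rcases hshare with rfl | rfl | rfl | rfl
    · exact ⟨p, hp, b, hb, q, mk hp hb hq hub huq fun e => hne (by rw [e]), rfl, rfl⟩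
    · exact ⟨p, hp, a, perp_symm h ha hb, q, mk hp (perp_symm h ha hb) hq hua huq
        (fun e => hne (by rw [e, hq.2.2.eq])), hb.2.2.eq, rfl⟩
    · exact ⟨q, hq.1, b, hb, p, mk hq.1 hb (perp_symm h hp hq) hub hup
        (fun e => hne (by rw [e, hq.2.2.eq])), rfl, hq.2.2.eq⟩
    · exact ⟨q, hq.1, a, perp_symm h ha hb, p, mk hq.1 (perp_symm h ha hb) (perp_symm h hp hq) hua hup
        (fun e => hne (by rw [e])), hb.2.2.eq, hq.2.2.eq⟩

end M24Aut

end Cfsg.Lib.ThreeTr
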